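import Cfsg.Agent.ThompsonWielandt.Basic
import Mathlib.GroupTheory.GroupAction.Primitive
import Mathlib.GroupTheory.GroupAction.Quotient

/-!
Index bounds for the second core, and primitive permutation groups.
-/

set_option autoImplicit false

namespace Cfsg.Agent.ThompsonWielandt

open Subgroup

variable {G : Type*} [Group G]

theorem index_normalCore_dvd_factorial [Finite G] (U : Subgroup G) :
    U.normalCore.index ∣ Nat.factorial U.index := by
  rw [normalCore_eq_ker, index_ker, index_eq_card, ← Nat.card_perm]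
  exact card_subgroup_dvd_card _

theorem relIndex_normalCore_dvd [Finite G] (U : Subgroup G) :
    U.normalCore.relIndex U ∣ Nat.factorial (U.index - 1) := by
  have h := index_normalCore_dvd_factorial U
  rw [← relIndex_mul_index U.normalCore_le, ← Nat.mul_factorial_pred index_ne_zero_of_finite,
    mul_comm U.index] at h
  exact Nat.dvd_of_mul_dvd_mul_right (Nat.pos_of_ne_zero index_ne_zero_of_finite) h

theorem relIndex_normalCore_dvd_pow [Finite G] {A D U : Subgroup G} [A.Normal] (hDA : D ≤ A)
    (hAD : A ≤ normalizer (D : Set G)) (hU : U ≤ normalizer (D : Set G)) :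
    D.normalCore.relIndex A ∣ (D.relIndex A) ^ U.index := by
  classical
  haveI : (D.subgroupOf A).Normal := (normal_subgroupOf_iff_le_normalizer hDA).mpr hAD
  let c : G ⧸ U → ↥A →* ↥A := fun q =>
    { toFun := fun a => ⟨q.out⁻¹ * a * q.out,
        Normal.conj_mem' inferInstance (a : G) a.2 _⟩
      map_one' := Subtype.ext (by simp)
      map_mul' := fun a b => Subtype.ext (by simp [mul_assoc]) }
  let f : ↥A →* (G ⧸ U → ↥A ⧸ D.subgroupOf A) :=
    MonoidHom.pi fun q => (QuotientGroup.mk' (D.subgroupOf A)).comp (c q)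
  have hker : f.ker = D.normalCore.subgroupOf A := by
    ext a
    rw [MonoidHom.mem_ker, funext_iff, mem_subgroupOf]
    constructor
    · intro h b
      have hq := (QuotientGroup.eq_one_iff _).mp (h (QuotientGroup.mk b⁻¹))
      obtain ⟨u, hu⟩ := QuotientGroup.mk_out_eq_mul U b⁻¹
      have hq' : (QuotientGroup.mk b⁻¹ : G ⧸ U).out⁻¹ * (a : G) *
          (QuotientGroup.mk b⁻¹ : G ⧸ U).out ∈ D := hq
      rw [hu] at hq'
      show b * (a : G) * b⁻¹ ∈ D
      refine (mem_normalizer_iff.mp ((normalizer (D : Set G)).inv_mem (hU u.2)) _).mpr ?_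
      simpa [mul_assoc] using hq'
    · intro h q
      refine (QuotientGroup.eq_one_iff _).mpr ?_
      have := h q.out⁻¹
      rwa [inv_inv] at this
  show (D.normalCore.subgroupOf A).index ∣ _
  rw [← hker, index_ker, index_eq_card, relIndex, index_eq_card, ← Nat.card_fun]
  exact card_subgroup_dvd_card _

/-- The index of the second core. -/
theorem index_A2_dvd [Finite G] {M₁ M₂ : Subgroup G} (hcard : Nat.card M₁ = Nat.card M₂) :
    ((A2 M₁ M₂).subgroupOf M₁).index ∣
      Nat.factorial (M₂.subgroupOf M₁).index *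
        (Nat.factorial ((M₂.subgroupOf M₁).index - 1)) ^ (M₂.subgroupOf M₁).index := by
  set d := (M₂.subgroupOf M₁).index with hd
  set U := M₁ ⊓ M₂ with hU
  have hU₁ : (U.subgroupOf M₁).index = d := by
    rw [hd, hU, inf_comm]; show (M₂ ⊓ M₁).relIndex M₁ = M₂.relIndex M₁
    exact inf_relIndex_right M₂ M₁
  have hUd : ∀ M : Subgroup G, U ≤ M → (U.subgroupOf M).index * Nat.card U = Nat.card M := by
    intro M hM
    rw [mul_comm, ← Nat.card_congr (subgroupOfEquivOfLe hM).toEquiv, card_mul_index]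
  have hU₂ : (U.subgroupOf M₂).index = d :=
    Nat.eq_of_mul_eq_mul_right Nat.card_pos
      ((hUd M₂ inf_le_right).trans (hcard ▸ hU₁ ▸ (hUd M₁ inf_le_left).symm))
  set A := A1 M₁ M₂ with hA
  set B := B1 M₁ M₂ with hB
  set D := A ⊓ B with hD
  have hA' : A.subgroupOf M₁ = (U.subgroupOf M₁).normalCore :=
    comap_map_eq_self_of_injective M₁.subtype_injective _
  have hB' : B.subgroupOf M₂ = (U.subgroupOf M₂).normalCore :=
    comap_map_eq_self_of_injective M₂.subtype_injective _
  have hA2' : (A2 M₁ M₂).subgroupOf M₁ = (D.subgroupOf M₁).normalCore :=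
    comap_map_eq_self_of_injective M₁.subtype_injective _
  have h1 : (A.subgroupOf M₁).index ∣ Nat.factorial d := by
    rw [hA', ← hU₁]
    exact index_normalCore_dvd_factorial _
  have h2 : B.relIndex U ∣ Nat.factorial (d - 1) := by
    have h := relIndex_normalCore_dvd (U.subgroupOf M₂)
    rwa [← hB', relIndex_subgroupOf inf_le_right, hU₂] at h
  have h3 : D.relIndex A ∣ Nat.factorial (d - 1) := by
    refine dvd_trans ?_ h2
    rw [hD, inf_relIndex_left]
    haveI : (B.subgroupOf U).Normal :=
      (normal_subgroupOf_iff_le_normalizer (B1_le M₁ M₂)).mpr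
        (inf_le_right.trans (le_normalizer_cor _ _))
    have := relIndex_dvd_index_of_normal (B.subgroupOf U) (A.subgroupOf U)
    rwa [relIndex_subgroupOf (A1_le M₁ M₂)] at this
  haveI : (A.subgroupOf M₁).Normal := hA' ▸ inferInstance
  have hDA : D.subgroupOf M₁ ≤ A.subgroupOf M₁ := comap_mono inf_le_left
  have hN : ∀ X : Subgroup G, X ≤ U → X.subgroupOf M₁ ≤ normalizer (D.subgroupOf M₁ : Set M₁) :=
    fun X hX x hx => mem_normalizer_iff.mpr fun y =>
      mem_normalizer_iff.mp (inf_le_normalizer_D M₁ M₂ (hX hx)) (y : G)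
  have h4 : (D.subgroupOf M₁).normalCore.relIndex (A.subgroupOf M₁) ∣ (Nat.factorial (d - 1)) ^ d := by
    refine (relIndex_normalCore_dvd_pow hDA (hN A (A1_le M₁ M₂)) (hN U le_rfl)).trans ?_
    rw [hU₁, relIndex_subgroupOf (cor_le_left _ _)]
    exact pow_dvd_pow_of_dvd h3 d
  rw [hA2', ← relIndex_mul_index ((normalCore_le _).trans hDA), mul_comm]
  exact mul_dvd_mul h1 h4

theorem card_dvd_of_A2_eq_bot [Finite G] {M₁ M₂ : Subgroup G} (hcard : Nat.card M₁ = Nat.card M₂)
    (h : A2 M₁ M₂ = ⊥ ∨ B2 M₁ M₂ = ⊥) :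
    Nat.card M₁ ∣ Nat.factorial (M₂.subgroupOf M₁).index *
        (Nat.factorial ((M₂.subgroupOf M₁).index - 1)) ^ (M₂.subgroupOf M₁).index := by
  rcases h with h | h
  · have := index_A2_dvd hcard
    rwa [h, bot_subgroupOf, index_bot] at this
  · have := index_A2_dvd hcard.symm
    rw [A2_swap, h, bot_subgroupOf, index_bot] at this
    have e : (M₁.subgroupOf M₂).index = (M₂.subgroupOf M₁).index := by
      refine Nat.eq_of_mul_eq_mul_right (m := Nat.card ↥(M₁ ⊓ M₂)) Nat.card_pos ?_
      have k : ∀ P Q : Subgroup G, (Q.subgroupOf P).index * Nat.card ↥(P ⊓ Q) = Nat.card P := by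
        intro P Q
        have : (P ⊓ Q).subgroupOf P = Q.subgroupOf P := by
          ext x; simp [mem_subgroupOf]
        rw [mul_comm, ← this,
          ← Nat.card_congr (subgroupOfEquivOfLe (inf_le_left : P ⊓ Q ≤ P)).toEquiv, card_mul_index]
      rw [k M₁ M₂, inf_comm, k M₂ M₁, hcard]
    rwa [e, ← hcard] at this

section Perm

variable {Ω : Type*} [MulAction G Ω]

open MulAction

theorem normalCore_stabilizer_eq_bot [FaithfulSMul G Ω] [IsPretransitive G Ω] (a : Ω) :
    (stabilizer G a).normalCore = ⊥ := by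
  refine le_bot_iff.mp fun g hg => mem_bot.mpr (FaithfulSMul.eq_of_smul_eq_smul fun x : Ω => ?_)
  obtain ⟨h, rfl⟩ := exists_smul_eq G a x
  have hg' : (h⁻¹ * g * h) • a = a := by simpa using hg h⁻¹
  rw [one_smul]
  calc g • h • a = h • ((h⁻¹ * g * h) • a) := by rw [← mul_smul, ← mul_smul]; group
    _ = h • a := by rw [hg']

theorem stabilizer_subgroupOf_index (H : Subgroup G) (b : Ω) :
    ((stabilizer G b).subgroupOf H).index = Nat.card (orbit H b) := by
  rw [show (stabilizer G b).subgroupOf H = stabilizer H b from rfl, index_stabilizer,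
    ← Nat.card_coe_set_eq]

/-- The setup attached to two points of a primitive group. -/
theorem setup_perm [Finite G] [FaithfulSMul G Ω] (hprim : IsPreprimitive G Ω) {a b : Ω}
    (hd : 2 ≤ Nat.card (orbit (stabilizer G a) b)) :
    Setup (stabilizer G a) (stabilizer G b) ∧
      Nat.card (stabilizer G a) = Nat.card (stabilizer G b) := by
  haveI := hprim
  have hab : a ≠ b := by
    rintro rfl
    have : orbit (stabilizer G a) a = {a} := by
      ext x
      refine ⟨fun ⟨h, hx⟩ => ?_, fun hx => (Set.mem_singleton_iff.mp hx).symm ▸ mem_orbit_self a⟩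
      rw [Set.mem_singleton_iff, ← hx]
      exact mem_stabilizer_iff.mp h.2
    simp [this] at hd
  haveI : Nontrivial Ω := ⟨a, b, hab⟩
  obtain ⟨g, hg⟩ := exists_smul_eq G a b
  have hconj : stabilizer G b = (stabilizer G a).map (MulAut.conj g).toMonoidHom := by
    rw [← hg, stabilizer_smul_eq_stabilizer_map_conj]
  have hne : stabilizer G a ≠ stabilizer G b := by
    intro e
    have : orbit (stabilizer G a) b = {b} := by
      ext x
      refine ⟨fun ⟨h, hx⟩ => ?_, fun hx => (Set.mem_singleton_iff.mp hx).symm ▸ mem_orbit_self b⟩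
      rw [Set.mem_singleton_iff, ← hx]
      exact mem_stabilizer_iff.mp (show (h : G) ∈ stabilizer G b by rw [← e]; exact h.2)
    simp [this] at hd
  exact ⟨setup_of_conj (IsPreprimitive.isCoatom_stabilizer_of_isPreprimitive G a) g hconj hne
    (normalCore_stabilizer_eq_bot a), by rw [hconj, Layer.card_map_conj]⟩

/-- If the group induced on the suborbit by the two-point stabiliser is Fitting-free, so is the
two-point stabiliser. -/
theorem fitting_inf_eq_bot [Finite G] [FaithfulSMul G Ω] {a b : Ω}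
    (h : Setup (stabilizer G a) (stabilizer G b))
    (hF : Cfsg.fittingSubgroup ↥(((stabilizer G b).subgroupOf (stabilizer G a)).map
      (toPermHom (stabilizer G a) (orbit (stabilizer G a) b))) = ⊥) :
    Cfsg.fittingSubgroup ↥(stabilizer G a ⊓ stabilizer G b) = ⊥ := by
  set H := stabilizer G a with hH
  set K := stabilizer G b with hK
  rw [Core.fittingSubgroup_eq_iSup_pCore, iSup_eq_bot]
  intro r
  haveI := Fact.mk r.2
  refine (map_eq_bot_iff_of_injective _ (H ⊓ K).subtype_injective).mp ?_
  set R := pc (r : ℕ) (H ⊓ K) with hR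
  have hRH : R ≤ H ⊓ K := map_subtype_le _
  -- `R` acts trivially on the suborbit
  have hRA : R ≤ A1 H K := by
    intro x hx
    refine mem_cor (hRH hx).1 fun m hm => ⟨mul_mem (mul_mem hm (hRH hx).1) (H.inv_mem hm), ?_⟩
    let φ := toPermHom H (orbit H b)
    let ψ : ↥(H ⊓ K) →* ↥((K.subgroupOf H).map φ) :=
      (φ.subgroupMap (K.subgroupOf H)).comp
        ((inclusion inf_le_left).codRestrict (K.subgroupOf H) fun u => u.2.2)
    have hψ : Function.Surjective ψ := by
      rintro ⟨_, y, hy, rfl⟩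
      exact ⟨⟨y, y.2, hy⟩, rfl⟩
    haveI : ((Cfsg.pCore (r : ℕ) ↥(H ⊓ K)).map ψ).Normal := Normal.map inferInstance ψ hψ
    have hbot : (Cfsg.pCore (r : ℕ) ↥(H ⊓ K)).map ψ = ⊥ := by
      rw [← le_bot_iff, ← hF]
      haveI : Finite ↥((K.subgroupOf H).map φ) := Finite.of_surjective ψ hψ
      exact le_sSup ⟨inferInstance, (Core.pCore_isPGroup.map ψ).isNilpotent⟩
    obtain ⟨x', hx', rfl⟩ := hx
    have h1 : ψ x' = 1 := mem_bot.mp (hbot ▸ mem_map_of_mem ψ hx')
    have h2 := congrArg Subtype.val (DFunLike.congr_fun (congrArg Subtype.val h1)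
      (⟨(⟨m⁻¹, H.inv_mem hm⟩ : H) • b, mem_orbit _ _⟩ : orbit H b))
    have h2' : (x' : G) • m⁻¹ • b = m⁻¹ • b := h2
    show m * (x' : G) * m⁻¹ ∈ stabilizer G b
    rw [mem_stabilizer_iff, mul_smul, mul_smul, h2', smul_inv_smul]
  have hRn : H ⊓ K ≤ normalizer (R : Set G) := le_normalizer_map_normal _ _
  have hAH : A1 H K ≤ H := cor_le_left _ _
  have hRS : R = pc (r : ℕ) H ⊓ A1 H K := by
    refine le_antisymm (le_inf (le_pc (hRA.trans hAH) ?_ (pc_isPGroup _)) hRA) ?_
    · exact isSubnormal_trans hRA hAH ((A1_le H K).trans hRn) (le_normalizer_cor _ _)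
    · refine le_pc (inf_le_right.trans (A1_le H K)) ?_ ((pc_isPGroup H).to_le inf_le_left)
      exact isSubnormal_of_le_normalizer (inf_le_right.trans (A1_le H K))
        (Layer.le_normalizer_inf (inf_le_left.trans (le_normalizer_map_normal H _))
          (inf_le_left.trans (le_normalizer_cor _ _)))
  by_contra hne
  have hNR : normalizer (R : Set G) = H :=
    h.norm₁ hne (hRH.trans inf_le_left) (hRS ▸ Layer.le_normalizer_inf
      (le_normalizer_map_normal H _) (le_normalizer_cor _ _))
  set Q := pc (r : ℕ) K with hQ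
  have hRQ : R ≤ normalizer (Q : Set G) := (hRH.trans inf_le_right).trans (le_normalizer_map_normal K _)
  have hT : IsPGroup (r : ℕ) (R ⊔ Q : Subgroup G) :=
    (pc_isPGroup _).to_sup_of_normal_right' (pc_isPGroup K) hRQ
  by_cases hle : R = R ⊔ Q
  · have hQR : Q ≤ pc (r : ℕ) H := (hle ▸ le_sup_right : Q ≤ R).trans (hRS.le.trans inf_le_left)
    have heq : Q = pc (r : ℕ) H := eq_of_le_of_card_ge hQR (h.card_pc r).le
    have hQ0 : Q = ⊥ := h.eq_bot (heq ▸ map_subtype_le _) (map_subtype_le _)
      (heq ▸ le_normalizer_map_normal H _) (le_normalizer_map_normal K _)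
    exact hne (le_bot_iff.mp ((hRS.le.trans inf_le_left).trans (heq ▸ hQ0).le))
  obtain ⟨y, hy, hyn, hyR⟩ := Layer.exists_mem_normalizer_not_mem hT le_sup_left hle
  rw [← SetLike.mem_coe, coe_mul_of_left_le_normalizer_right _ _ hRQ] at hy
  obtain ⟨u, hu, q, hq, rfl⟩ := hy
  refine hyR (mul_mem hu ?_)
  have hqH : q ∈ H := by
    rw [← hNR]
    simpa using mul_mem ((normalizer (R : Set G)).inv_mem (le_normalizer hu)) hyn
  have hle' : Q ⊓ H ≤ R := by
    refine le_pc (le_inf inf_le_right (inf_le_left.trans (map_subtype_le _))) ?_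
      ((pc_isPGroup K).to_le inf_le_left)
    exact isSubnormal_of_le_normalizer (le_inf inf_le_right (inf_le_left.trans (map_subtype_le _)))
      (Layer.le_normalizer_inf (inf_le_right.trans (le_normalizer_map_normal K _))
        (inf_le_left.trans le_normalizer))
  exact hle' ⟨hq, hqH⟩

end Perm

end Cfsg.Agent.ThompsonWielandt
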