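import Cfsg.Agent.Layer.SubnormalJoin
import Cfsg.Agent.Layer.PTerminalGroup
import Cfsg.Agent.Layer.FStar
import Cfsg.Agent.Layer.PConstraint

/-!
The Thompson–Wielandt theorem: for two conjugate maximal subgroups with trivial core, if both
second cores are non-trivial then they are `p`-groups and `F*` is the `p`-core.
-/

set_option autoImplicit false

namespace Cfsg.Agent.ThompsonWielandt

open Subgroup
open scoped commutatorElement

variable {G : Type*} [Group G]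

/-- The largest subgroup of `Y ⊓ M` normal in `M`. -/
def cor (M Y : Subgroup G) : Subgroup G := ((Y.subgroupOf M).normalCore).map M.subtype

theorem cor_le_left (M Y : Subgroup G) : cor M Y ≤ M := map_subtype_le _

theorem cor_le_right (M Y : Subgroup G) : cor M Y ≤ Y := by
  rintro _ ⟨x, hx, rfl⟩
  exact (normalCore_le _ hx : x ∈ Y.subgroupOf M)

theorem mem_cor {M Y : Subgroup G} {x : G} (hx : x ∈ M) (h : ∀ m ∈ M, m * x * m⁻¹ ∈ Y) :
    x ∈ cor M Y :=
  ⟨⟨x, hx⟩, fun m => h m m.2, rfl⟩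

theorem le_normalizer_map_normal (M : Subgroup G) (N : Subgroup M) [N.Normal] :
    M ≤ normalizer ((N.map M.subtype : Subgroup G) : Set G) := by
  intro m hm
  refine mem_normalizer_iff.mpr fun x => ⟨?_, ?_⟩
  · rintro ⟨y, hy, rfl⟩
    exact ⟨⟨m, hm⟩ * y * ⟨m, hm⟩⁻¹, Normal.conj_mem inferInstance y hy _, rfl⟩
  · rintro ⟨y, hy, hxy⟩
    refine ⟨⟨m, hm⟩⁻¹ * y * ⟨m, hm⟩, Normal.conj_mem' inferInstance y hy _, ?_⟩
    show m⁻¹ * (y : G) * m = x
    rw [show (y : G) = m * x * m⁻¹ from hxy]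
    group

theorem le_normalizer_cor (M Y : Subgroup G) : M ≤ normalizer (cor M Y : Set G) :=
  le_normalizer_map_normal M _

theorem le_cor {M Y X : Subgroup G} (hM : X ≤ M) (hY : X ≤ Y) (h : M ≤ normalizer (X : Set G)) :
    X ≤ cor M Y :=
  fun x hx => mem_cor (hM hx) fun m hm => hY ((mem_normalizer_iff.mp (h hm) x).mp hx)

/-- `O_p(M)` as a subgroup of `G`. -/
abbrev pc (p : ℕ) (M : Subgroup G) : Subgroup G := (Cfsg.pCore p M).map M.subtype

theorem pc_isPGroup [Finite G] {p : ℕ} [Fact p.Prime] (M : Subgroup G) : IsPGroup p (pc p M) :=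
  Core.pCore_isPGroup.map _

theorem card_map_subtype (M : Subgroup G) (N : Subgroup M) :
    Nat.card (N.map M.subtype : Subgroup G) = Nat.card N :=
  (Nat.card_congr (N.equivMapOfInjective _ M.subtype_injective).toEquiv).symm

theorem pc_map_equiv [Finite G] {p : ℕ} (M : Subgroup G) (f : G ≃* G) :
    (pc p M).map f.toMonoidHom = pc p (M.map f.toMonoidHom) := by
  show ((Cfsg.pCore p M).map M.subtype).map f.toMonoidHom =
    (Cfsg.pCore p ↥(M.map (f : G →* G))).map (M.map (f : G →* G)).subtype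
  rw [map_map, ← Core.map_pCore (f.subgroupMap M), map_map]
  rfl

/-- A `p`-subgroup subnormal in `M` lies in `O_p(M)`. -/
theorem le_pc [Finite G] {p : ℕ} [Fact p.Prime] {M P : Subgroup G} (hPM : P ≤ M)
    (hsn : (P.subgroupOf M).IsSubnormal) (hP : IsPGroup p P) : P ≤ pc p M := by
  rw [← map_subgroupOf_eq_of_le hPM]
  exact map_mono (Layer.subnormal_le_pCore hsn (hP.of_equiv (subgroupOfEquivOfLe hPM).symm))

theorem isSubnormal_of_le_normalizer {M X : Subgroup G} (hX : X ≤ M)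
    (h : M ≤ normalizer (X : Set G)) : (X.subgroupOf M).IsSubnormal :=
  ((normal_subgroupOf_iff_le_normalizer hX).mpr h).isSubnormal

theorem isSubnormal_trans {M B X : Subgroup G} (hX : X ≤ B) (hB : B ≤ M)
    (hXB : B ≤ normalizer (X : Set G)) (hBM : M ≤ normalizer (B : Set G)) :
    (X.subgroupOf M).IsSubnormal := by
  refine Subgroup.IsSubnormal.trans (K := B.subgroupOf M) (fun x hx => hX hx) ?_
    (isSubnormal_of_le_normalizer hB hBM)
  refine Subgroup.Normal.isSubnormal ((normal_subgroupOf_iff_le_normalizer ?_).mpr ?_)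
  · exact fun x hx => hX hx
  · exact fun b hb => mem_normalizer_iff.mpr fun x => mem_normalizer_iff.mp (hXB hb) (x : G)

theorem resOf_eq_bot_of_isPGroup [Finite G] {p : ℕ} [Fact p.Prime] {P : Subgroup G}
    (hP : IsPGroup p P) : LocalStructure.resOf p P = ⊥ := by
  refine le_bot_iff.mp (LocalStructure.resOf_le_iff.mpr fun g hg hc => mem_bot.mpr ?_)
  obtain ⟨k, hk⟩ := hP ⟨g, hg⟩
  have h : orderOf g ∣ p ^ k := orderOf_dvd_of_pow_eq_one (congrArg Subtype.val hk)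
  exact orderOf_eq_one_iff.mp ((Nat.Coprime.pow_right k hc).eq_one_of_dvd h)

theorem isPGroup_of_resOf_eq_bot [Finite G] {p : ℕ} [Fact p.Prime] {P : Subgroup G}
    (h : LocalStructure.resOf p P = ⊥) : IsPGroup p P := by
  by_contra hP
  obtain ⟨q, hq, hq1, hqo⟩ := Layer.exists_coprime_orderOf hP
  exact hq1 (mem_bot.mp (h ▸ LocalStructure.mem_resOf hq hqo))

theorem resOf_eq_self_of_isPGroup [Finite G] {p q : ℕ} [hp : Fact p.Prime] [hq : Fact q.Prime]
    (hpq : p ≠ q) {P : Subgroup G} (hP : IsPGroup p P) : LocalStructure.resOf q P = P := by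
  refine le_antisymm (LocalStructure.resOf_le q P) fun g hg => LocalStructure.mem_resOf hg ?_
  obtain ⟨k, hk⟩ := hP ⟨g, hg⟩
  exact Nat.Coprime.of_dvd_left (orderOf_dvd_of_pow_eq_one (congrArg Subtype.val hk))
    (((Nat.coprime_primes hp.out hq.out).mpr hpq).pow_left k)

/-- If `A` and `B` are subnormal in their join `W`, then `O^p(W) = O^p(A) O^p(B)`. -/
theorem resOf_sup_eq [Finite G] {p : ℕ} [Fact p.Prime] {M A B : Subgroup G} (hA : A ≤ M) (hB : B ≤ M)
    (hA' : (A.subgroupOf M).IsSubnormal) (hB' : (B.subgroupOf M).IsSubnormal) :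
    LocalStructure.resOf p (A ⊔ B) ≤ LocalStructure.resOf p A ⊔ LocalStructure.resOf p B := by
  set W := A ⊔ B with hW
  have hWM : W ≤ M := sup_le hA hB
  have sn : ∀ {X : Subgroup G}, (X.subgroupOf M).IsSubnormal → (X.subgroupOf W).IsSubnormal :=
    fun {X} h => h.comap (inclusion hWM)
  have htop : A.subgroupOf W ⊔ B.subgroupOf W = ⊤ := by
    rw [← subgroupOf_sup le_sup_left le_sup_right, subgroupOf_self]
  have push : ∀ X : Subgroup G, X ≤ W →
      (LocalStructure.resOf p (X.subgroupOf W)).map W.subtype ≤ LocalStructure.resOf p X := by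
    intro X hX
    rw [map_le_iff_le_comap, LocalStructure.resOf_le_iff]
    exact fun g hg hc => LocalStructure.mem_resOf hg (by rw [Subgroup.coe_subtype, orderOf_coe]; exact hc)
  show (Cfsg.pResidual p W).map W.subtype ≤ _
  rw [Layer.pResidual_eq_sup (sn hA') (sn hB') htop, Subgroup.map_sup]
  exact sup_le_sup (push A le_sup_left) (push B le_sup_right)

/-- The hypotheses: two maximal subgroups with trivial core, of isomorphic `p`-cores. -/
structure Setup (M₁ M₂ : Subgroup G) : Prop where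
  norm₁ : ∀ {X : Subgroup G}, X ≠ ⊥ → X ≤ M₁ → M₁ ≤ normalizer (X : Set G) → normalizer (X : Set G) = M₁
  norm₂ : ∀ {X : Subgroup G}, X ≠ ⊥ → X ≤ M₂ → M₂ ≤ normalizer (X : Set G) → normalizer (X : Set G) = M₂
  ne : M₁ ≠ M₂
  card_pc : ∀ p : ℕ, Nat.card (pc p M₁) = Nat.card (pc p M₂)

theorem norm_of_isCoatom {M : Subgroup G} (hM : IsCoatom M) (hc : M.normalCore = ⊥) {X : Subgroup G}
    (hX : X ≠ ⊥) (hXM : X ≤ M) (h : M ≤ normalizer (X : Set G)) : normalizer (X : Set G) = M := by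
  rcases hM.le_iff.mp h with e | e
  · haveI := normalizer_eq_top_iff.mp e
    exact absurd (le_bot_iff.mp (hc ▸ normal_le_normalCore.mpr hXM)) hX
  · exact e

theorem setup_of_conj [Finite G] {M₁ M₂ : Subgroup G} (hmax : IsCoatom M₁) (g : G)
    (hconj : M₂ = M₁.map (MulAut.conj g).toMonoidHom) (hne : M₁ ≠ M₂) (hcore : M₁.normalCore = ⊥) :
    Setup M₁ M₂ := by
  refine ⟨fun h1 h2 h3 => norm_of_isCoatom hmax hcore h1 h2 h3, ?_, hne, fun p => ?_⟩
  · intro X hX hXM h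
    refine norm_of_isCoatom ?_ ?_ hX hXM h
    · rw [hconj]
      exact ((MulAut.conj g).mapSubgroup.isCoatom_iff M₁).mpr hmax
    · refine le_bot_iff.mp fun x hx => mem_bot.mpr ?_
      have : x ∈ M₁.normalCore := by
        intro b
        have h := hx (g * b)
        rw [hconj] at h
        obtain ⟨y, hy, hy'⟩ := h
        rw [MulEquiv.coe_toMonoidHom, MulAut.conj_apply] at hy'
        have : y = b * x * b⁻¹ := mul_left_cancel (mul_right_cancel (hy'.trans (by group : (g * b) * x * (g * b)⁻¹ = g * (b * x * b⁻¹) * g⁻¹)))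
        exact this ▸ hy
      rwa [hcore, mem_bot] at this
  · rw [hconj, ← pc_map_equiv]
    exact (Layer.card_map_conj _ g).symm

namespace Setup

variable {M₁ M₂ : Subgroup G}

theorem symm (h : Setup M₁ M₂) : Setup M₂ M₁ :=
  ⟨h.norm₂, h.norm₁, h.ne.symm, fun p => (h.card_pc p).symm⟩

theorem eq_bot (h : Setup M₁ M₂) {X : Subgroup G} (hX₁ : X ≤ M₁) (hX₂ : X ≤ M₂)
    (h₁ : M₁ ≤ normalizer (X : Set G)) (h₂ : M₂ ≤ normalizer (X : Set G)) : X = ⊥ := by
  by_contra hX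
  exact h.ne ((h.norm₁ hX hX₁ h₁).symm.trans (h.norm₂ hX hX₂ h₂))

end Setup

variable (M₁ M₂ : Subgroup G)

/-- The first core. -/
abbrev A1 : Subgroup G := cor M₁ (M₁ ⊓ M₂)

/-- The first core of the other subgroup. -/
abbrev B1 : Subgroup G := cor M₂ (M₁ ⊓ M₂)

/-- The second core. -/
abbrev A2 : Subgroup G := cor M₁ (A1 M₁ M₂ ⊓ B1 M₁ M₂)

/-- The second core of the other subgroup. -/
abbrev B2 : Subgroup G := cor M₂ (A1 M₁ M₂ ⊓ B1 M₁ M₂)

theorem A1_swap : A1 M₂ M₁ = B1 M₁ M₂ := by rw [A1, B1, inf_comm]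

theorem B1_swap : B1 M₂ M₁ = A1 M₁ M₂ := by rw [A1, B1, inf_comm]

theorem A2_swap : A2 M₂ M₁ = B2 M₁ M₂ := by
  show cor M₂ (cor M₂ (M₂ ⊓ M₁) ⊓ cor M₁ (M₂ ⊓ M₁)) = cor M₂ (cor M₁ (M₁ ⊓ M₂) ⊓ cor M₂ (M₁ ⊓ M₂))
  rw [inf_comm M₂ M₁, inf_comm (cor M₂ _)]

theorem B2_swap : B2 M₂ M₁ = A2 M₁ M₂ := (A2_swap M₂ M₁).symm

theorem A1_le : A1 M₁ M₂ ≤ M₁ ⊓ M₂ := cor_le_right _ _

theorem B1_le : B1 M₁ M₂ ≤ M₁ ⊓ M₂ := cor_le_right _ _

theorem A2_le : A2 M₁ M₂ ≤ A1 M₁ M₂ ⊓ B1 M₁ M₂ := cor_le_right _ _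

theorem B2_le : B2 M₁ M₂ ≤ A1 M₁ M₂ ⊓ B1 M₁ M₂ := cor_le_right _ _

theorem B1_le_normalizer_A1 : B1 M₁ M₂ ≤ normalizer (A1 M₁ M₂ : Set G) :=
  ((B1_le M₁ M₂).trans inf_le_left).trans (le_normalizer_cor _ _)

theorem A1_le_normalizer_B1 : A1 M₁ M₂ ≤ normalizer (B1 M₁ M₂ : Set G) :=
  ((A1_le M₁ M₂).trans inf_le_right).trans (le_normalizer_cor _ _)

theorem inf_le_normalizer_D :
    M₁ ⊓ M₂ ≤ normalizer ((A1 M₁ M₂ ⊓ B1 M₁ M₂ : Subgroup G) : Set G) :=
  Layer.le_normalizer_inf (inf_le_left.trans (le_normalizer_cor _ _))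
    (inf_le_right.trans (le_normalizer_cor _ _))

theorem D_subnormal : ((A1 M₁ M₂ ⊓ B1 M₁ M₂).subgroupOf M₂).IsSubnormal :=
  isSubnormal_trans inf_le_right (cor_le_left _ _) ((B1_le M₁ M₂).trans (inf_le_normalizer_D M₁ M₂))
    (le_normalizer_cor _ _)

theorem D_subnormal' : ((A1 M₁ M₂ ⊓ B1 M₁ M₂).subgroupOf M₁).IsSubnormal :=
  isSubnormal_trans inf_le_left (cor_le_left _ _) ((A1_le M₁ M₂).trans (inf_le_normalizer_D M₁ M₂))
    (le_normalizer_cor _ _)

theorem A2_subnormal : ((A2 M₁ M₂).subgroupOf M₂).IsSubnormal :=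
  isSubnormal_trans ((A2_le M₁ M₂).trans inf_le_right) (cor_le_left _ _)
    (((B1_le M₁ M₂).trans inf_le_left).trans (le_normalizer_cor _ _)) (le_normalizer_cor _ _)

variable {M₁ M₂}

/-- `C_{M₁}(A₁) ≤ A₁`. -/
theorem centralizer_A1_le (h : Setup M₁ M₂) (hB : B2 M₁ M₂ ≠ ⊥) :
    M₁ ⊓ centralizer (A1 M₁ M₂ : Set G) ≤ A1 M₁ M₂ := by
  refine le_cor inf_le_left (le_inf inf_le_left ?_) ?_
  · refine (inf_le_right.trans ((centralizer_le ?_).trans (centralizer_le_normalizer _))).trans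
      (h.norm₂ hB (cor_le_left _ _) (le_normalizer_cor _ _)).le
    exact (B2_le M₁ M₂).trans inf_le_left
  · refine Layer.le_normalizer_inf le_normalizer fun m hm => ?_
    refine mem_normalizer_iff.mpr fun x => ?_
    have hn := mem_normalizer_iff.mp (le_normalizer_cor _ (M₁ ⊓ M₂) hm)
    simp only [mem_centralizer_iff, SetLike.mem_coe]
    constructor <;> intro hx a ha
    · have h1 := hx (m⁻¹ * a * m) ((hn _).mpr (by simpa [mul_assoc] using ha))
      calc a * (m * x * m⁻¹) = m * ((m⁻¹ * a * m) * x) * m⁻¹ := by group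
        _ = m * (x * (m⁻¹ * a * m)) * m⁻¹ := by rw [h1]
        _ = m * x * m⁻¹ * a := by group
    · have h1 := hx (m * a * m⁻¹) ((hn a).mp ha)
      calc a * x = m⁻¹ * ((m * a * m⁻¹) * (m * x * m⁻¹)) * m := by group
        _ = m⁻¹ * ((m * x * m⁻¹) * (m * a * m⁻¹)) * m := by rw [h1]
        _ = x * a := by group

theorem component_le_D [Finite G] (h : Setup M₁ M₂) (hA : A2 M₁ M₂ ≠ ⊥) (hB : B2 M₁ M₂ ≠ ⊥)
    {K : Subgroup M₂} (hK : IsComponent K) : K.map M₂.subtype ≤ A1 M₁ M₂ ⊓ B1 M₁ M₂ := by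
  have hA2M : A2 M₁ M₂ ≤ M₂ :=
    ((A2_le M₁ M₂).trans inf_le_right).trans (cor_le_left _ _)
  have hM₁ : ∀ {L : Subgroup M₂}, IsComponent L → L.map M₂.subtype ≤ M₁ := by
    intro L hL
    rcases Layer.component_le_or_commute hL (A2_subnormal M₁ M₂) with h1 | h1
    · refine le_trans ?_ (cor_le_left M₁ (A1 M₁ M₂ ⊓ B1 M₁ M₂))
      exact (map_mono h1).trans_eq (map_subgroupOf_eq_of_le hA2M)
    · rw [← h.norm₁ hA (cor_le_left _ _) (le_normalizer_cor _ _)]
      refine le_trans ?_ (centralizer_le_normalizer _)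
      rw [← commutator_eq_bot_iff_le_centralizer, ← map_subgroupOf_eq_of_le hA2M, ← map_commutator, h1,
        Subgroup.map_bot]
  have hlay : (layer M₂).map M₂.subtype ≤ B1 M₁ M₂ := by
    refine le_cor (map_subtype_le _) (le_inf ?_ (map_subtype_le _)) (le_normalizer_map_normal M₂ _)
    rw [Layer.map_layer_subtype_eq_sSup, sSup_le_iff]
    rintro _ ⟨L, hL, rfl⟩
    exact hM₁ hL
  have hKB : K.map M₂.subtype ≤ B1 M₁ M₂ := (map_mono (Layer.component_le_layer hK)).trans hlay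
  have hDM : A1 M₁ M₂ ⊓ B1 M₁ M₂ ≤ M₂ := inf_le_right.trans (cor_le_left _ _)
  rcases Layer.component_le_or_commute hK (D_subnormal M₁ M₂) with h1 | h1
  · exact (map_mono h1).trans_eq (map_subgroupOf_eq_of_le hDM)
  exfalso
  set K' := K.map M₂.subtype with hK'
  set D := A1 M₁ M₂ ⊓ B1 M₁ M₂ with hD
  have hKD : ⁅K', D⁆ = ⊥ := by
    rw [hK', ← map_subgroupOf_eq_of_le hDM, ← map_commutator, h1, Subgroup.map_bot]
  have hperf : ⁅K', K'⁆ = K' := by rw [hK', ← map_commutator, Layer.qs_subgroup_perfect hK.2]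
  have hKA : ⁅K', A1 M₁ M₂⁆ ≤ D := by
    refine le_inf ?_ ((commutator_mono hKB le_rfl).trans
      (le_normalizer_iff_commutator_le_left.mp (A1_le_normalizer_B1 M₁ M₂)))
    exact (commutator_mono hKB le_rfl).trans
      (le_normalizer_iff_commutator_le_right.mp (B1_le_normalizer_A1 M₁ M₂))
  have h2 : ⁅⁅K', A1 M₁ M₂⁆, K'⁆ = ⊥ :=
    le_bot_iff.mp ((commutator_mono hKA le_rfl).trans (Layer.commutator_eq_bot_symm hKD).le)
  have h3 : ⁅⁅K', K'⁆, A1 M₁ M₂⁆ = ⊥ :=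
    commutator_commutator_eq_bot_of_rotate h2 (by rwa [Subgroup.commutator_comm (A1 M₁ M₂) K'])
  rw [hperf] at h3
  have h4 : K' ≤ A1 M₁ M₂ :=
    (le_inf ((hKB.trans (B1_le M₁ M₂)).trans inf_le_left)
      (commutator_eq_bot_iff_le_centralizer.mp h3)).trans (centralizer_A1_le h hB)
  have h5 : K' = ⊥ := by
    rw [← hperf, ← le_bot_iff]
    exact (commutator_mono le_rfl h4).trans h3.le
  exact Layer.qs_subgroup_ne_bot hK.2 ((map_eq_bot_iff_of_injective K M₂.subtype_injective).mp h5)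

/-- A component of `↥M₂` inside `D` is one of `↥M₁`. -/
theorem isComponent_transfer [Finite G] {M N D : Subgroup G} (hDM : D ≤ M) (hDN : D ≤ N)
    (hD : (D.subgroupOf N).IsSubnormal) {K : Subgroup M} (hK : IsComponent K)
    (hKD : K.map M.subtype ≤ D) : IsComponent ((K.map M.subtype).subgroupOf N) := by
  have e : ↥((K.map M.subtype).subgroupOf N) ≃* ↥K :=
    (subgroupOfEquivOfLe (hKD.trans hDN)).trans (K.equivMapOfInjective _ M.subtype_injective).symm
  refine ⟨?_, Layer.isQuasisimple_congr e.symm hK.2⟩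
  refine Subgroup.IsSubnormal.trans (K := D.subgroupOf N) (fun x hx => hKD hx) ?_ hD
  have := (hK.1.comap (inclusion hDM)).comap (subgroupOfEquivOfLe hDN).toMonoidHom
  convert this using 1
  ext x
  simp only [mem_subgroupOf, mem_comap, Subgroup.mem_map]
  constructor
  · rintro ⟨y, hy, hyx⟩
    convert hy using 1
    exact Subtype.ext hyx.symm
  · exact fun hx => ⟨_, hx, rfl⟩

theorem map_layer_le [Finite G] (h : Setup M₁ M₂) (hA : A2 M₁ M₂ ≠ ⊥) (hB : B2 M₁ M₂ ≠ ⊥) :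
    (layer M₂).map M₂.subtype ≤ (layer M₁).map M₁.subtype ⊓ (A1 M₁ M₂ ⊓ B1 M₁ M₂) := by
  rw [Layer.map_layer_subtype_eq_sSup, sSup_le_iff]
  rintro _ ⟨L, hL, rfl⟩
  have hLD := component_le_D h hA hB hL
  have hDM₁ : A1 M₁ M₂ ⊓ B1 M₁ M₂ ≤ M₁ := inf_le_left.trans (cor_le_left _ _)
  refine le_inf ?_ hLD
  rw [Layer.map_layer_subtype_eq_sSup]
  refine le_sSup ⟨_, isComponent_transfer (inf_le_right.trans (cor_le_left _ _)) hDM₁
    (D_subnormal' M₁ M₂) hL hLD, ?_⟩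
  exact map_subgroupOf_eq_of_le (hLD.trans hDM₁)

theorem layer_eq_bot [Finite G] (h : Setup M₁ M₂) (hA : A2 M₁ M₂ ≠ ⊥) (hB : B2 M₁ M₂ ≠ ⊥) :
    layer M₂ = ⊥ := by
  have h1 := map_layer_le h hA hB
  have h2 := map_layer_le h.symm (A2_swap M₁ M₂ ▸ hB) (B2_swap M₁ M₂ ▸ hA)
  have e : (layer M₁).map M₁.subtype = (layer M₂).map M₂.subtype :=
    le_antisymm (h2.trans inf_le_left) (h1.trans inf_le_left)
  have : (layer M₂).map M₂.subtype = ⊥ :=
    h.eq_bot (h1.trans (inf_le_left.trans (map_subtype_le _))) (map_subtype_le _)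
      (e ▸ le_normalizer_map_normal M₁ (layer M₁)) (le_normalizer_map_normal M₂ (layer M₂))
  exact (map_eq_bot_iff_of_injective _ M₂.subtype_injective).mp this

/-- The key step: if `O^p(A₂) ≠ 1` then `O_p(M₂) = 1`. -/
theorem pc_eq_bot [Finite G] (h : Setup M₁ M₂) {p : ℕ} [Fact p.Prime]
    (hX : LocalStructure.resOf p (A2 M₁ M₂) ≠ ⊥) : pc p M₂ = ⊥ := by
  set X := LocalStructure.resOf p (A2 M₁ M₂) with hXdef
  set P₂ := pc p M₂ with hP₂
  set P₁ := pc p M₁ with hP₁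
  have hNX : normalizer (X : Set G) = M₁ :=
    h.norm₁ hX ((LocalStructure.resOf_le _ _).trans (cor_le_left _ _))
      (LocalStructure.le_normalizer_resOf p (le_normalizer_cor _ _))
  have hA2M : A2 M₁ M₂ ≤ M₂ := ((A2_le M₁ M₂).trans inf_le_right).trans (cor_le_left _ _)
  have hP₂sn : (P₂.subgroupOf M₂).IsSubnormal :=
    isSubnormal_of_le_normalizer (map_subtype_le _) (le_normalizer_map_normal M₂ _)
  have hW : LocalStructure.resOf p (A2 M₁ M₂ ⊔ P₂) = X := by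
    refine le_antisymm ((resOf_sup_eq hA2M (map_subtype_le _) (A2_subnormal M₁ M₂) hP₂sn).trans ?_)
      (LocalStructure.resOf_mono p le_sup_left)
    rw [resOf_eq_bot_of_isPGroup (pc_isPGroup M₂), sup_bot_eq]
  have hP₂M₁ : P₂ ≤ M₁ := by
    rw [← hNX, ← hW]
    exact le_sup_right.trans (LocalStructure.le_normalizer_resOf p le_normalizer)
  have hP₂B : P₂ ≤ B1 M₁ M₂ :=
    le_cor (map_subtype_le _) (le_inf hP₂M₁ (map_subtype_le _)) (le_normalizer_map_normal M₂ _)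
  -- elements centralising `B₁ / P₂` lie in `M₁`
  have hC : ∀ c : G, (∀ b ∈ B1 M₁ M₂, c * b * c⁻¹ * b⁻¹ ∈ P₂) → c ∈ M₁ := by
    intro c hc
    rw [← hNX]
    refine Layer.mem_normalizer_of_conj_mem fun q hq => ?_
    suffices X ≤ X.comap (MulAut.conj c).toMonoidHom from this hq
    refine LocalStructure.resOf_le_iff.mpr fun g hg ho => ?_
    show c * g * c⁻¹ ∈ X
    rw [← hW]
    refine LocalStructure.mem_resOf ?_ (by rw [LocalStructure.orderOf_conj]; exact ho)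
    rw [show c * g * c⁻¹ = c * g * c⁻¹ * g⁻¹ * g by group]
    exact mul_mem (mem_sup_right (hc g ((A2_le M₁ M₂).trans inf_le_right hg))) (mem_sup_left hg)
  have hJ : P₁ ⊓ B1 M₁ M₂ ≤ P₂ := by
    refine le_pc (inf_le_right.trans (cor_le_left _ _)) ?_
      ((pc_isPGroup M₁).to_le inf_le_left)
    exact isSubnormal_trans inf_le_right (cor_le_left _ _)
      (Layer.le_normalizer_inf (((B1_le M₁ M₂).trans inf_le_left).trans (le_normalizer_map_normal M₁ _))
        le_normalizer) (le_normalizer_cor _ _)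
  have hI : P₁ ⊓ M₂ ≤ P₂ := by
    intro x hx
    refine hJ ⟨hx.1, ?_⟩
    have hxc : ∀ b ∈ B1 M₁ M₂, x * b * x⁻¹ * b⁻¹ ∈ P₂ := fun b hb => hJ
      ⟨by
        rw [show x * b * x⁻¹ * b⁻¹ = x * (b * x⁻¹ * b⁻¹) by group]
        exact mul_mem hx.1 ((mem_normalizer_iff.mp
          (le_normalizer_map_normal M₁ _ ((B1_le M₁ M₂).trans inf_le_left hb)) x⁻¹).mp (P₁.inv_mem hx.1)),
      mul_mem ((mem_normalizer_iff.mp (le_normalizer_cor _ _ hx.2) b).mp hb) ((B1 M₁ M₂).inv_mem hb)⟩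
    refine mem_cor hx.2 fun m hm => ⟨hC _ fun b hb => ?_, mul_mem (mul_mem hm hx.2) (M₂.inv_mem hm)⟩
    have hb' : m⁻¹ * b * m ∈ B1 M₁ M₂ := by
      simpa using (mem_normalizer_iff.mp (le_normalizer_cor M₂ (M₁ ⊓ M₂) (inv_mem hm)) b).mp hb
    rw [show m * x * m⁻¹ * b * (m * x * m⁻¹)⁻¹ * b⁻¹ =
      m * (x * (m⁻¹ * b * m) * x⁻¹ * (m⁻¹ * b * m)⁻¹) * m⁻¹ by group]
    exact (mem_normalizer_iff.mp (le_normalizer_map_normal M₂ _ hm) _).mp (hxc _ hb')
  by_contra hne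
  have hPP : P₂ ≤ normalizer (P₁ : Set G) := hP₂M₁.trans (le_normalizer_map_normal M₁ _)
  have hT : IsPGroup p (P₂ ⊔ P₁ : Subgroup G) :=
    (pc_isPGroup M₂).to_sup_of_normal_right' (pc_isPGroup M₁) hPP
  by_cases hle : P₂ = P₂ ⊔ P₁
  · have heq : P₁ = P₂ := eq_of_le_of_card_ge (hle ▸ le_sup_right) (h.card_pc p).ge
    exact hne (h.eq_bot hP₂M₁ (map_subtype_le _) (heq ▸ le_normalizer_map_normal M₁ _)
      (le_normalizer_map_normal M₂ _))
  obtain ⟨y, hy, hyn, hyP⟩ := Layer.exists_mem_normalizer_not_mem hT le_sup_left hle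
  rw [← SetLike.mem_coe, coe_mul_of_left_le_normalizer_right _ _ hPP] at hy
  obtain ⟨a, ha, b, hb, rfl⟩ := hy
  refine hyP (mul_mem ha (hI ⟨hb, ?_⟩))
  have : b ∈ normalizer (P₂ : Set G) := by
    simpa using mul_mem ((normalizer (P₂ : Set G)).inv_mem (le_normalizer ha)) hyn
  rwa [h.norm₂ hne (map_subtype_le _) (le_normalizer_map_normal M₂ _)] at this

theorem generalizedFitting_eq_pCore [Finite G] {M : Subgroup G} {p : ℕ} [hp : Fact p.Prime]
    (hE : layer M = ⊥) (hq : ∀ q : ℕ, q.Prime → q ≠ p → pc q M = ⊥) :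
    generalizedFittingSubgroup M = Cfsg.pCore p M := by
  rw [generalizedFittingSubgroup, hE, bot_sup_eq, Core.fittingSubgroup_eq_iSup_pCore]
  refine le_antisymm (iSup_le fun r => ?_)
    (le_iSup (fun r : Nat.Primes => Cfsg.pCore (r : ℕ) M) ⟨p, hp.out⟩)
  by_cases hr : (r : ℕ) = p
  · rw [hr]
  · rw [(map_eq_bot_iff_of_injective _ M.subtype_injective).mp (hq r r.2 hr)]
    exact bot_le

/-- `F*` of the first core. -/
theorem generalizedFitting_cor [Finite G] {M Y : Subgroup G} {p : ℕ} [Fact p.Prime]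
    (h : generalizedFittingSubgroup M = Cfsg.pCore p M) :
    generalizedFittingSubgroup (cor M Y) = Cfsg.pCore p (cor M Y) := by
  set N := (Y.subgroupOf M).normalCore with hN
  have hNn : generalizedFittingSubgroup N = Cfsg.pCore p N := by
    apply Subgroup.map_injective N.subtype_injective
    rw [Layer.map_generalizedFitting_normal, Core.map_pCore_normal, h]
  have e : N ≃* cor M Y := N.equivMapOfInjective _ M.subtype_injective
  rw [← Layer.map_generalizedFitting_equiv e, ← Core.map_pCore e, hNn]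

/-- The Thompson–Wielandt theorem. -/
theorem main [Finite G] (h : Setup M₁ M₂) (hA : A2 M₁ M₂ ≠ ⊥) (hB : B2 M₁ M₂ ≠ ⊥) :
    ∃ p : ℕ, p.Prime ∧ IsPGroup p (A2 M₁ M₂) ∧ IsPGroup p (B2 M₁ M₂) ∧
      generalizedFittingSubgroup M₁ = Cfsg.pCore p M₁ ∧
      generalizedFittingSubgroup M₂ = Cfsg.pCore p M₂ := by
  have hA' : A2 M₂ M₁ ≠ ⊥ := A2_swap M₁ M₂ ▸ hB
  have hE₂ := layer_eq_bot h hA hB
  have hE₁ := layer_eq_bot h.symm hA' (B2_swap M₁ M₂ ▸ hA)
  haveI : Nontrivial M₁ :=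
    (nontrivial_iff_ne_bot M₁).mpr fun e => hA (le_bot_iff.mp ((cor_le_left _ _).trans e.le))
  obtain ⟨p, hp⟩ : ∃ p : Nat.Primes, pc p M₁ ≠ ⊥ := by
    by_contra hall
    push Not at hall
    apply Layer.generalizedFitting_ne_bot (G := M₁)
    rw [generalizedFittingSubgroup, hE₁, bot_sup_eq, Core.fittingSubgroup_eq_iSup_pCore]
    exact iSup_eq_bot.mpr fun r => (map_eq_bot_iff_of_injective _ M₁.subtype_injective).mp (hall r)
  haveI := Fact.mk p.2
  have hp₂ : pc p M₂ ≠ ⊥ := fun e => hp (card_eq_one.mp ((h.card_pc p).trans (card_eq_one.mpr e)))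
  have hAp : IsPGroup p (A2 M₁ M₂) :=
    isPGroup_of_resOf_eq_bot (by_contra fun hX => hp₂ (pc_eq_bot h hX))
  have hBp : IsPGroup p (B2 M₁ M₂) := by
    rw [← A2_swap]
    exact isPGroup_of_resOf_eq_bot (by_contra fun hX => hp (pc_eq_bot h.symm hX))
  have hq : ∀ q : ℕ, q.Prime → q ≠ p → pc q M₁ = ⊥ ∧ pc q M₂ = ⊥ := by
    intro q hq hne
    haveI := Fact.mk hq
    have h2 : pc q M₂ = ⊥ := pc_eq_bot h (by rwa [resOf_eq_self_of_isPGroup hne.symm hAp])
    exact ⟨card_eq_one.mp ((h.card_pc q).trans (card_eq_one.mpr h2)), h2⟩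
  exact ⟨p, p.2, hAp, hBp, generalizedFitting_eq_pCore hE₁ fun q a b => (hq q a b).1,
    generalizedFitting_eq_pCore hE₂ fun q a b => (hq q a b).2⟩

theorem isPGroup_sup [Finite G] {p : ℕ} (hAp : IsPGroup p (A2 M₁ M₂)) (hBp : IsPGroup p (B2 M₁ M₂)) :
    IsPGroup p (A2 M₁ M₂ ⊔ B2 M₁ M₂ : Subgroup G) :=
  hAp.to_sup_of_normal_right' hBp
    (((A2_le M₁ M₂).trans inf_le_right).trans ((cor_le_left _ _).trans (le_normalizer_cor _ _)))

end Cfsg.Agent.ThompsonWielandt
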